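import Cfsg.Agent.Lib.TC.D.Fi23a.Tab
import Cfsg.Agent.Lib.TC.D.Fi23a.C0
import Cfsg.Agent.Lib.TC.D.Fi23a.C1
import Cfsg.Agent.Lib.TC.D.Fi23a.C2
import Cfsg.Agent.Lib.TC.D.Fi23a.C3
import Cfsg.Agent.Lib.TC.D.Fi23a.C4
import Cfsg.Agent.Lib.TC.D.Fi23a.C5
import Cfsg.Agent.Lib.TC.D.Fi23a.C6
import Cfsg.Agent.Lib.TC.D.Fi23a.C7
import Cfsg.Agent.Lib.TC.D.Fi23a.C8
import Cfsg.Agent.Lib.TC.D.Fi23a.C9
import Cfsg.Agent.Lib.TC.D.Fi23a.C10
import Cfsg.Agent.Lib.TC.D.Fi23a.C11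
import Cfsg.Agent.Lib.TC.D.Fi23a.C12
import Cfsg.Agent.Lib.TC.D.Fi23a.C13
import Cfsg.Agent.Lib.TC.D.Fi23a.P0
import Cfsg.Agent.Lib.TC.D.Fi23a.P1
import Cfsg.Agent.Lib.TC.D.Fi23a.P2
import Cfsg.Agent.Lib.TC.D.Fi23a.P3
import Cfsg.Agent.Lib.TC.D.Fi23a.P4
import Cfsg.Agent.Lib.TC.D.Fi23a.P5
import Cfsg.Agent.Lib.TC.D.Fi23a.P6
import Cfsg.Agent.Lib.TC.D.Fi23a.P7
import Cfsg.Agent.Lib.TC.D.Fi23a.P8
import Cfsg.Agent.Lib.TC.D.Fi23a.P9
import Cfsg.Agent.Lib.TC.D.Fi23a.P10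
import Cfsg.Agent.Lib.TC.D.Fi23a.P11
import Cfsg.Agent.Lib.TC.D.Fi23a.P12
import Cfsg.Agent.Lib.TC.D.Fi23a.P13
import Cfsg.Agent.Lib.TC.D.Fi23a.P14
import Cfsg.Agent.Lib.TC.D.Fi23a.P15
import Cfsg.Agent.Lib.TC.D.Fi23a.P16
import Cfsg.Agent.Lib.TC.D.Fi23a.P17
import Cfsg.Agent.Lib.TC.D.Fi23a.P18
import Cfsg.Agent.Lib.TC.D.Fi23a.P19
import Cfsg.Agent.Lib.TC.D.Fi23a.P20
import Cfsg.Agent.Lib.TC.D.Fi23a.P21
import Cfsg.Agent.Lib.TC.D.Fi23a.P22
import Cfsg.Agent.Lib.TC.D.Fi23a.P23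
import Cfsg.Agent.Lib.TC.D.Fi23a.P24
import Cfsg.Agent.Lib.TC.D.Fi23a.P25
import Cfsg.Agent.Lib.TC.D.Fi23a.P26
import Cfsg.Agent.Lib.TC.D.Fi23a.P27
import Cfsg.Agent.Lib.TC.D.Fi23a.P28
import Cfsg.Agent.Lib.TC.D.Fi23a.P29
import Cfsg.Agent.Lib.TC.D.Fi23a.P30
import Cfsg.Agent.Lib.TC.D.Fi23a.P31
import Cfsg.Agent.Lib.TC.D.Fi23a.P32
import Cfsg.Agent.Lib.TC.D.Fi23a.P33
import Cfsg.Agent.Lib.TC.D.Fi23a.P34
import Cfsg.Agent.Lib.TC.D.Fi23a.P35
import Cfsg.Agent.Lib.TC.D.Fi23a.P36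
import Cfsg.Agent.Lib.TC.D.Fi23a.P37
import Cfsg.Agent.Lib.TC.D.Fi23a.P38
import Cfsg.Agent.Lib.TC.D.Fi23a.P39
import Cfsg.Agent.Lib.TC.D.Fi23a.P40
import Cfsg.Agent.Lib.TC.D.Fi23a.P41
import Cfsg.Agent.Lib.TC.D.Fi23a.P42
import Cfsg.Agent.Lib.TC.D.Fi23a.P43
import Cfsg.Agent.Lib.TC.D.Fi23a.P44
import Cfsg.Agent.Lib.TC.D.Fi23a.P45
import Cfsg.Agent.Lib.TC.D.Fi23a.P46
import Cfsg.Agent.Lib.TC.D.Fi23a.P47
import Cfsg.Agent.Lib.TC.D.Fi23a.P48
import Cfsg.Agent.Lib.TC.D.Fi23a.P49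
import Cfsg.Agent.Lib.TC.D.Fi23a.P50
import Cfsg.Agent.Lib.TC.D.Fi23a.P51

namespace Cfsg.Agent.Lib.TC.D.Fi23a.Ok

open Cfsg.Agent.Lib.TC.Core Cfsg.Agent.Lib.TC.Enc Cfsg.Agent.Lib.TC.Pres Cfsg.Agent.Lib.TC.Perm Cfsg.Agent.Lib.TC.Main

set_option maxRecDepth 100000

open Cfsg.Agent.Lib.TC.D.Fi23a.Tab Cfsg.Agent.Lib.TC.G.Fi23

theorem allC0 : cert.chkRange 0 3474 = true := Cfsg.Agent.Lib.TC.D.Fi23a.C0.ok
theorem allC1 : cert.chkRange 0 7114 = true := Cert.chkRange_join (lo := 0) (a := 3474) (b := 3640) _ allC0 Cfsg.Agent.Lib.TC.D.Fi23a.C1.ok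
theorem allC2 : cert.chkRange 0 10986 = true := Cert.chkRange_join (lo := 0) (a := 7114) (b := 3872) _ allC1 Cfsg.Agent.Lib.TC.D.Fi23a.C2.ok
theorem allC3 : cert.chkRange 0 15051 = true := Cert.chkRange_join (lo := 0) (a := 10986) (b := 4065) _ allC2 Cfsg.Agent.Lib.TC.D.Fi23a.C3.ok
theorem allC4 : cert.chkRange 0 19315 = true := Cert.chkRange_join (lo := 0) (a := 15051) (b := 4264) _ allC3 Cfsg.Agent.Lib.TC.D.Fi23a.C4.ok
theorem allC5 : cert.chkRange 0 23989 = true := Cert.chkRange_join (lo := 0) (a := 19315) (b := 4674) _ allC4 Cfsg.Agent.Lib.TC.D.Fi23a.C5.ok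
theorem allC6 : cert.chkRange 0 27997 = true := Cert.chkRange_join (lo := 0) (a := 23989) (b := 4008) _ allC5 Cfsg.Agent.Lib.TC.D.Fi23a.C6.ok
theorem allC7 : cert.chkRange 0 32775 = true := Cert.chkRange_join (lo := 0) (a := 27997) (b := 4778) _ allC6 Cfsg.Agent.Lib.TC.D.Fi23a.C7.ok
theorem allC8 : cert.chkRange 0 36273 = true := Cert.chkRange_join (lo := 0) (a := 32775) (b := 3498) _ allC7 Cfsg.Agent.Lib.TC.D.Fi23a.C8.ok
theorem allC9 : cert.chkRange 0 39499 = true := Cert.chkRange_join (lo := 0) (a := 36273) (b := 3226) _ allC8 Cfsg.Agent.Lib.TC.D.Fi23a.C9.ok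
theorem allC10 : cert.chkRange 0 42731 = true := Cert.chkRange_join (lo := 0) (a := 39499) (b := 3232) _ allC9 Cfsg.Agent.Lib.TC.D.Fi23a.C10.ok
theorem allC11 : cert.chkRange 0 45975 = true := Cert.chkRange_join (lo := 0) (a := 42731) (b := 3244) _ allC10 Cfsg.Agent.Lib.TC.D.Fi23a.C11.ok
theorem allC12 : cert.chkRange 0 49239 = true := Cert.chkRange_join (lo := 0) (a := 45975) (b := 3264) _ allC11 Cfsg.Agent.Lib.TC.D.Fi23a.C12.ok
theorem allC13 : cert.chkRange 0 52266 = true := Cert.chkRange_join (lo := 0) (a := 49239) (b := 3027) _ allC12 Cfsg.Agent.Lib.TC.D.Fi23a.C13.ok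
theorem allP0 : pt.chkRange rels 0 620 = true := Cfsg.Agent.Lib.TC.D.Fi23a.P0.ok
theorem allP1 : pt.chkRange rels 0 1240 = true := PT.chkRange_join (lo := 0) (a := 620) (b := 620) _ allP0 Cfsg.Agent.Lib.TC.D.Fi23a.P1.ok
theorem allP2 : pt.chkRange rels 0 1860 = true := PT.chkRange_join (lo := 0) (a := 1240) (b := 620) _ allP1 Cfsg.Agent.Lib.TC.D.Fi23a.P2.ok
theorem allP3 : pt.chkRange rels 0 2480 = true := PT.chkRange_join (lo := 0) (a := 1860) (b := 620) _ allP2 Cfsg.Agent.Lib.TC.D.Fi23a.P3.ok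
theorem allP4 : pt.chkRange rels 0 3100 = true := PT.chkRange_join (lo := 0) (a := 2480) (b := 620) _ allP3 Cfsg.Agent.Lib.TC.D.Fi23a.P4.ok
theorem allP5 : pt.chkRange rels 0 3720 = true := PT.chkRange_join (lo := 0) (a := 3100) (b := 620) _ allP4 Cfsg.Agent.Lib.TC.D.Fi23a.P5.ok
theorem allP6 : pt.chkRange rels 0 4340 = true := PT.chkRange_join (lo := 0) (a := 3720) (b := 620) _ allP5 Cfsg.Agent.Lib.TC.D.Fi23a.P6.ok
theorem allP7 : pt.chkRange rels 0 4960 = true := PT.chkRange_join (lo := 0) (a := 4340) (b := 620) _ allP6 Cfsg.Agent.Lib.TC.D.Fi23a.P7.ok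
theorem allP8 : pt.chkRange rels 0 5580 = true := PT.chkRange_join (lo := 0) (a := 4960) (b := 620) _ allP7 Cfsg.Agent.Lib.TC.D.Fi23a.P8.ok
theorem allP9 : pt.chkRange rels 0 6200 = true := PT.chkRange_join (lo := 0) (a := 5580) (b := 620) _ allP8 Cfsg.Agent.Lib.TC.D.Fi23a.P9.ok
theorem allP10 : pt.chkRange rels 0 6820 = true := PT.chkRange_join (lo := 0) (a := 6200) (b := 620) _ allP9 Cfsg.Agent.Lib.TC.D.Fi23a.P10.ok
theorem allP11 : pt.chkRange rels 0 7440 = true := PT.chkRange_join (lo := 0) (a := 6820) (b := 620) _ allP10 Cfsg.Agent.Lib.TC.D.Fi23a.P11.ok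
theorem allP12 : pt.chkRange rels 0 8060 = true := PT.chkRange_join (lo := 0) (a := 7440) (b := 620) _ allP11 Cfsg.Agent.Lib.TC.D.Fi23a.P12.ok
theorem allP13 : pt.chkRange rels 0 8680 = true := PT.chkRange_join (lo := 0) (a := 8060) (b := 620) _ allP12 Cfsg.Agent.Lib.TC.D.Fi23a.P13.ok
theorem allP14 : pt.chkRange rels 0 9300 = true := PT.chkRange_join (lo := 0) (a := 8680) (b := 620) _ allP13 Cfsg.Agent.Lib.TC.D.Fi23a.P14.ok
theorem allP15 : pt.chkRange rels 0 9920 = true := PT.chkRange_join (lo := 0) (a := 9300) (b := 620) _ allP14 Cfsg.Agent.Lib.TC.D.Fi23a.P15.ok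
theorem allP16 : pt.chkRange rels 0 10540 = true := PT.chkRange_join (lo := 0) (a := 9920) (b := 620) _ allP15 Cfsg.Agent.Lib.TC.D.Fi23a.P16.ok
theorem allP17 : pt.chkRange rels 0 11160 = true := PT.chkRange_join (lo := 0) (a := 10540) (b := 620) _ allP16 Cfsg.Agent.Lib.TC.D.Fi23a.P17.ok
theorem allP18 : pt.chkRange rels 0 11780 = true := PT.chkRange_join (lo := 0) (a := 11160) (b := 620) _ allP17 Cfsg.Agent.Lib.TC.D.Fi23a.P18.ok
theorem allP19 : pt.chkRange rels 0 12400 = true := PT.chkRange_join (lo := 0) (a := 11780) (b := 620) _ allP18 Cfsg.Agent.Lib.TC.D.Fi23a.P19.ok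
theorem allP20 : pt.chkRange rels 0 13020 = true := PT.chkRange_join (lo := 0) (a := 12400) (b := 620) _ allP19 Cfsg.Agent.Lib.TC.D.Fi23a.P20.ok
theorem allP21 : pt.chkRange rels 0 13640 = true := PT.chkRange_join (lo := 0) (a := 13020) (b := 620) _ allP20 Cfsg.Agent.Lib.TC.D.Fi23a.P21.ok
theorem allP22 : pt.chkRange rels 0 14260 = true := PT.chkRange_join (lo := 0) (a := 13640) (b := 620) _ allP21 Cfsg.Agent.Lib.TC.D.Fi23a.P22.ok
theorem allP23 : pt.chkRange rels 0 14880 = true := PT.chkRange_join (lo := 0) (a := 14260) (b := 620) _ allP22 Cfsg.Agent.Lib.TC.D.Fi23a.P23.ok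
theorem allP24 : pt.chkRange rels 0 15500 = true := PT.chkRange_join (lo := 0) (a := 14880) (b := 620) _ allP23 Cfsg.Agent.Lib.TC.D.Fi23a.P24.ok
theorem allP25 : pt.chkRange rels 0 16120 = true := PT.chkRange_join (lo := 0) (a := 15500) (b := 620) _ allP24 Cfsg.Agent.Lib.TC.D.Fi23a.P25.ok
theorem allP26 : pt.chkRange rels 0 16740 = true := PT.chkRange_join (lo := 0) (a := 16120) (b := 620) _ allP25 Cfsg.Agent.Lib.TC.D.Fi23a.P26.ok
theorem allP27 : pt.chkRange rels 0 17360 = true := PT.chkRange_join (lo := 0) (a := 16740) (b := 620) _ allP26 Cfsg.Agent.Lib.TC.D.Fi23a.P27.ok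
theorem allP28 : pt.chkRange rels 0 17980 = true := PT.chkRange_join (lo := 0) (a := 17360) (b := 620) _ allP27 Cfsg.Agent.Lib.TC.D.Fi23a.P28.ok
theorem allP29 : pt.chkRange rels 0 18600 = true := PT.chkRange_join (lo := 0) (a := 17980) (b := 620) _ allP28 Cfsg.Agent.Lib.TC.D.Fi23a.P29.ok
theorem allP30 : pt.chkRange rels 0 19220 = true := PT.chkRange_join (lo := 0) (a := 18600) (b := 620) _ allP29 Cfsg.Agent.Lib.TC.D.Fi23a.P30.ok
theorem allP31 : pt.chkRange rels 0 19840 = true := PT.chkRange_join (lo := 0) (a := 19220) (b := 620) _ allP30 Cfsg.Agent.Lib.TC.D.Fi23a.P31.ok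
theorem allP32 : pt.chkRange rels 0 20460 = true := PT.chkRange_join (lo := 0) (a := 19840) (b := 620) _ allP31 Cfsg.Agent.Lib.TC.D.Fi23a.P32.ok
theorem allP33 : pt.chkRange rels 0 21080 = true := PT.chkRange_join (lo := 0) (a := 20460) (b := 620) _ allP32 Cfsg.Agent.Lib.TC.D.Fi23a.P33.ok
theorem allP34 : pt.chkRange rels 0 21700 = true := PT.chkRange_join (lo := 0) (a := 21080) (b := 620) _ allP33 Cfsg.Agent.Lib.TC.D.Fi23a.P34.ok
theorem allP35 : pt.chkRange rels 0 22320 = true := PT.chkRange_join (lo := 0) (a := 21700) (b := 620) _ allP34 Cfsg.Agent.Lib.TC.D.Fi23a.P35.ok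
theorem allP36 : pt.chkRange rels 0 22940 = true := PT.chkRange_join (lo := 0) (a := 22320) (b := 620) _ allP35 Cfsg.Agent.Lib.TC.D.Fi23a.P36.ok
theorem allP37 : pt.chkRange rels 0 23560 = true := PT.chkRange_join (lo := 0) (a := 22940) (b := 620) _ allP36 Cfsg.Agent.Lib.TC.D.Fi23a.P37.ok
theorem allP38 : pt.chkRange rels 0 24180 = true := PT.chkRange_join (lo := 0) (a := 23560) (b := 620) _ allP37 Cfsg.Agent.Lib.TC.D.Fi23a.P38.ok
theorem allP39 : pt.chkRange rels 0 24800 = true := PT.chkRange_join (lo := 0) (a := 24180) (b := 620) _ allP38 Cfsg.Agent.Lib.TC.D.Fi23a.P39.ok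
theorem allP40 : pt.chkRange rels 0 25420 = true := PT.chkRange_join (lo := 0) (a := 24800) (b := 620) _ allP39 Cfsg.Agent.Lib.TC.D.Fi23a.P40.ok
theorem allP41 : pt.chkRange rels 0 26040 = true := PT.chkRange_join (lo := 0) (a := 25420) (b := 620) _ allP40 Cfsg.Agent.Lib.TC.D.Fi23a.P41.ok
theorem allP42 : pt.chkRange rels 0 26660 = true := PT.chkRange_join (lo := 0) (a := 26040) (b := 620) _ allP41 Cfsg.Agent.Lib.TC.D.Fi23a.P42.ok
theorem allP43 : pt.chkRange rels 0 27280 = true := PT.chkRange_join (lo := 0) (a := 26660) (b := 620) _ allP42 Cfsg.Agent.Lib.TC.D.Fi23a.P43.ok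
theorem allP44 : pt.chkRange rels 0 27900 = true := PT.chkRange_join (lo := 0) (a := 27280) (b := 620) _ allP43 Cfsg.Agent.Lib.TC.D.Fi23a.P44.ok
theorem allP45 : pt.chkRange rels 0 28520 = true := PT.chkRange_join (lo := 0) (a := 27900) (b := 620) _ allP44 Cfsg.Agent.Lib.TC.D.Fi23a.P45.ok
theorem allP46 : pt.chkRange rels 0 29140 = true := PT.chkRange_join (lo := 0) (a := 28520) (b := 620) _ allP45 Cfsg.Agent.Lib.TC.D.Fi23a.P46.ok
theorem allP47 : pt.chkRange rels 0 29760 = true := PT.chkRange_join (lo := 0) (a := 29140) (b := 620) _ allP46 Cfsg.Agent.Lib.TC.D.Fi23a.P47.ok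
theorem allP48 : pt.chkRange rels 0 30380 = true := PT.chkRange_join (lo := 0) (a := 29760) (b := 620) _ allP47 Cfsg.Agent.Lib.TC.D.Fi23a.P48.ok
theorem allP49 : pt.chkRange rels 0 31000 = true := PT.chkRange_join (lo := 0) (a := 30380) (b := 620) _ allP48 Cfsg.Agent.Lib.TC.D.Fi23a.P49.ok
theorem allP50 : pt.chkRange rels 0 31620 = true := PT.chkRange_join (lo := 0) (a := 31000) (b := 620) _ allP49 Cfsg.Agent.Lib.TC.D.Fi23a.P50.ok
theorem allP51 : pt.chkRange rels 0 31671 = true := PT.chkRange_join (lo := 0) (a := 31620) (b := 51) _ allP50 Cfsg.Agent.Lib.TC.D.Fi23a.P51.ok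

theorem hFinal : cert.chkFinal 0 52266 = true := by decide +kernel

theorem h0 : cert.eLvl (cert.par (cert.find cert.MAX cert.D 0)) = cert.MAX := by decide +kernel

theorem hcount : cert.countRoots cert.N = pt.n := by
  rw [countRoots_eq_acc]
  decide +kernel

theorem hgood : pt.Good rels where
  hpos := by decide
  hinv := by decide +kernel
  hrels := by decide +kernel
  hchk := allP51

theorem hchecked : Checked cert where
  hN := by decide
  hC := allC13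
  hF := hFinal
  h0 := h0

theorem hsubs : subW.map K.word = subs := by decide +kernel

theorem ok : Ok K Rel cert pt rels subs witT.get where
  hK := valid
  hCk := by decide
  hPk := by decide
  hPinv := fun _ => rfl
  hR := hR
  hrels := hrels
  hG := hgood
  hsubk := by decide +kernel
  hsub0 := by decide +kernel
  h1 := by decide +kernel
  h2 := by decide +kernel
  hC := hchecked
  hcount := hcount

end Cfsg.Agent.Lib.TC.D.Fi23a.Ok
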