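import Cfsg.Agent.Lib.TC.G.Fi23
import Cfsg.Agent.Lib.TC.D.Fi23a.CT0
import Cfsg.Agent.Lib.TC.D.Fi23a.PT0

namespace Cfsg.Agent.Lib.TC.D.Fi23a.Tab

open Cfsg.Agent.Lib.TC.Core Cfsg.Agent.Lib.TC.Enc Cfsg.Agent.Lib.TC.Pres Cfsg.Agent.Lib.TC.Perm Cfsg.Agent.Lib.TC.Main

set_option maxRecDepth 100000

/-- The chunks of the certificate. -/
noncomputable def ctree : Tr Nat := Cfsg.Agent.Lib.TC.D.Fi23a.CT0.tree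

/-- The relator rotations. -/
noncomputable def rotT : Tr (List Nat) := (Tr.node (Tr.node (Tr.node (Tr.node (Tr.node (Tr.node (Tr.node (Tr.node (Tr.leaf [])
 (Tr.leaf [4,5,8,0,1,2,3,4,5,8,0,1,2,3,4,5,8,0,1,2,3,4,5,8,0,1,2,3,4,5,8,0,1,2,3,4,5,8,0,1,2,3,4,5,8,0,1,2,3,4,5,8,0,1,2,3,4,5,8,0,1,2,3]))
 (Tr.node (Tr.leaf [3,6,3,6])
 (Tr.leaf [8,0,1,2,3,4,5,8,0,1,2,3,4,5,8,0,1,2,3,4,5,8,0,1,2,3,4,5,8,0,1,2,3,4,5,8,0,1,2,3,4,5,8,0,1,2,3,4,5,8,0,1,2,3,4,5,8,0,1,2,3,4,5])))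
 (Tr.node (Tr.node (Tr.leaf [1,3,1,3])
 (Tr.leaf [8,0,1,2,3,4,5,8,0,1,2,3,4,5,8,0,1,2,3,4,5,8,0,1,2,3,4,5,8,0,1,2,3,4,5,8,0,1,2,3,4,5,8,0,1,2,3,4,5,8,0,1,2,3,4,5,8,0,1,2,3,4,5]))
 (Tr.node (Tr.leaf [7,8,7,8])
 (Tr.leaf [8,0,1,2,3,4,5,8,0,1,2,3,4,5,8,0,1,2,3,4,5,8,0,1,2,3,4,5,8,0,1,2,3,4,5,8,0,1,2,3,4,5,8,0,1,2,3,4,5,8,0,1,2,3,4,5,8,0,1,2,3,4,5]))))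
 (Tr.node (Tr.node (Tr.node (Tr.leaf [0,3,0,3])
 (Tr.leaf [8,0,1,2,3,4,5,8,0,1,2,3,4,5,8,0,1,2,3,4,5,8,0,1,2,3,4,5,8,0,1,2,3,4,5,8,0,1,2,3,4,5,8,0,1,2,3,4,5,8,0,1,2,3,4,5,8,0,1,2,3,4,5]))
 (Tr.node (Tr.leaf [4,9,4,9])
 (Tr.leaf [8,0,1,2,3,4,5,8,0,1,2,3,4,5,8,0,1,2,3,4,5,8,0,1,2,3,4,5,8,0,1,2,3,4,5,8,0,1,2,3,4,5,8,0,1,2,3,4,5,8,0,1,2,3,4,5,8,0,1,2,3,4,5])))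
 (Tr.node (Tr.node (Tr.leaf [2,4,2,4])
 (Tr.leaf [8,0,1,2,3,4,5,8,0,1,2,3,4,5,8,0,1,2,3,4,5,8,0,1,2,3,4,5,8,0,1,2,3,4,5,8,0,1,2,3,4,5,8,0,1,2,3,4,5,8,0,1,2,3,4,5,8,0,1,2,3,4,5]))
 (Tr.node (Tr.leaf [5,3,8,9,3,2,1,3,4,5,3,8,9,3,2,1,3,4,5,3,8,9,3,2,1,3,4,5,3,8,9,3,2,1,3,4,5,3,8,9,3,2,1,3,4,5,3,8,9,3,2,1,3,4,5,3,8,9,3,2,1,3,4,5,3,8,9,3,2,1,3,4,5,3,8,9,3,2,1,3,4,5,3,8,9,3,2,1,3,4])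
 (Tr.leaf [8,0,1,2,3,4,5,8,0,1,2,3,4,5,8,0,1,2,3,4,5,8,0,1,2,3,4,5,8,0,1,2,3,4,5,8,0,1,2,3,4,5,8,0,1,2,3,4,5,8,0,1,2,3,4,5,8,0,1,2,3,4,5])))))
 (Tr.node (Tr.node (Tr.node (Tr.node (Tr.leaf [7,7])
 (Tr.leaf [8,0,1,2,3,4,5,8,0,1,2,3,4,5,8,0,1,2,3,4,5,8,0,1,2,3,4,5,8,0,1,2,3,4,5,8,0,1,2,3,4,5,8,0,1,2,3,4,5,8,0,1,2,3,4,5,8,0,1,2,3,4,5]))
 (Tr.node (Tr.leaf [4,5,4,5,4,5])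
 (Tr.leaf [8,0,1,2,3,4,5,8,0,1,2,3,4,5,8,0,1,2,3,4,5,8,0,1,2,3,4,5,8,0,1,2,3,4,5,8,0,1,2,3,4,5,8,0,1,2,3,4,5,8,0,1,2,3,4,5,8,0,1,2,3,4,5])))
 (Tr.node (Tr.node (Tr.leaf [1,7,1,7])
 (Tr.leaf [8,0,1,2,3,4,5,8,0,1,2,3,4,5,8,0,1,2,3,4,5,8,0,1,2,3,4,5,8,0,1,2,3,4,5,8,0,1,2,3,4,5,8,0,1,2,3,4,5,8,0,1,2,3,4,5,8,0,1,2,3,4,5]))
 (Tr.node (Tr.leaf [2,1,3,4,5,3,8,9,3,2,1,3,4,5,3,8,9,3,2,1,3,4,5,3,8,9,3,2,1,3,4,5,3,8,9,3,2,1,3,4,5,3,8,9,3,2,1,3,4,5,3,8,9,3,2,1,3,4,5,3,8,9,3,2,1,3,4,5,3,8,9,3,2,1,3,4,5,3,8,9,3,2,1,3,4,5,3,8,9,3])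
 (Tr.leaf [8,0,1,2,3,4,5,8,0,1,2,3,4,5,8,0,1,2,3,4,5,8,0,1,2,3,4,5,8,0,1,2,3,4,5,8,0,1,2,3,4,5,8,0,1,2,3,4,5,8,0,1,2,3,4,5,8,0,1,2,3,4,5]))))
 (Tr.node (Tr.node (Tr.node (Tr.leaf [0,7,0,7])
 (Tr.leaf [8,0,1,2,3,4,5,8,0,1,2,3,4,5,8,0,1,2,3,4,5,8,0,1,2,3,4,5,8,0,1,2,3,4,5,8,0,1,2,3,4,5,8,0,1,2,3,4,5,8,0,1,2,3,4,5,8,0,1,2,3,4,5]))
 (Tr.node (Tr.leaf [5,9,5,9])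
 (Tr.leaf [8,0,1,2,3,4,5,8,0,1,2,3,4,5,8,0,1,2,3,4,5,8,0,1,2,3,4,5,8,0,1,2,3,4,5,8,0,1,2,3,4,5,8,0,1,2,3,4,5,8,0,1,2,3,4,5,8,0,1,2,3,4,5])))
 (Tr.node (Tr.node (Tr.leaf [2,8,2,8])
 (Tr.leaf [8,0,1,2,3,4,5,8,0,1,2,3,4,5,8,0,1,2,3,4,5,8,0,1,2,3,4,5,8,0,1,2,3,4,5,8,0,1,2,3,4,5,8,0,1,2,3,4,5,8,0,1,2,3,4,5,8,0,1,2,3,4,5]))
 (Tr.node (Tr.leaf [0,1,2,3,4,5,8,0,1,2,3,4,5,8,0,1,2,3,4,5,8,0,1,2,3,4,5,8,0,1,2,3,4,5,8,0,1,2,3,4,5,8,0,1,2,3,4,5,8,0,1,2,3,4,5,8,0,1,2,3,4,5,8])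
 (Tr.leaf [8,0,1,2,3,4,5,8,0,1,2,3,4,5,8,0,1,2,3,4,5,8,0,1,2,3,4,5,8,0,1,2,3,4,5,8,0,1,2,3,4,5,8,0,1,2,3,4,5,8,0,1,2,3,4,5,8,0,1,2,3,4,5]))))))
 (Tr.node (Tr.node (Tr.node (Tr.node (Tr.node (Tr.leaf [3,3])
 (Tr.leaf [8,0,1,2,3,4,5,8,0,1,2,3,4,5,8,0,1,2,3,4,5,8,0,1,2,3,4,5,8,0,1,2,3,4,5,8,0,1,2,3,4,5,8,0,1,2,3,4,5,8,0,1,2,3,4,5,8,0,1,2,3,4,5]))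
 (Tr.node (Tr.leaf [3,8,3,8,3,8])
 (Tr.leaf [8,0,1,2,3,4,5,8,0,1,2,3,4,5,8,0,1,2,3,4,5,8,0,1,2,3,4,5,8,0,1,2,3,4,5,8,0,1,2,3,4,5,8,0,1,2,3,4,5,8,0,1,2,3,4,5,8,0,1,2,3,4,5])))
 (Tr.node (Tr.node (Tr.leaf [1,5,1,5])
 (Tr.leaf [8,0,1,2,3,4,5,8,0,1,2,3,4,5,8,0,1,2,3,4,5,8,0,1,2,3,4,5,8,0,1,2,3,4,5,8,0,1,2,3,4,5,8,0,1,2,3,4,5,8,0,1,2,3,4,5,8,0,1,2,3,4,5]))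
 (Tr.node (Tr.leaf [8,9,8,9,8,9])
 (Tr.leaf [8,0,1,2,3,4,5,8,0,1,2,3,4,5,8,0,1,2,3,4,5,8,0,1,2,3,4,5,8,0,1,2,3,4,5,8,0,1,2,3,4,5,8,0,1,2,3,4,5,8,0,1,2,3,4,5,8,0,1,2,3,4,5]))))
 (Tr.node (Tr.node (Tr.node (Tr.leaf [0,5,0,5])
 (Tr.leaf [8,0,1,2,3,4,5,8,0,1,2,3,4,5,8,0,1,2,3,4,5,8,0,1,2,3,4,5,8,0,1,2,3,4,5,8,0,1,2,3,4,5,8,0,1,2,3,4,5,8,0,1,2,3,4,5,8,0,1,2,3,4,5]))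
 (Tr.node (Tr.leaf [5,7,5,7])
 (Tr.leaf [8,0,1,2,3,4,5,8,0,1,2,3,4,5,8,0,1,2,3,4,5,8,0,1,2,3,4,5,8,0,1,2,3,4,5,8,0,1,2,3,4,5,8,0,1,2,3,4,5,8,0,1,2,3,4,5,8,0,1,2,3,4,5])))
 (Tr.node (Tr.node (Tr.leaf [2,6,2,6])
 (Tr.leaf [8,0,1,2,3,4,5,8,0,1,2,3,4,5,8,0,1,2,3,4,5,8,0,1,2,3,4,5,8,0,1,2,3,4,5,8,0,1,2,3,4,5,8,0,1,2,3,4,5,8,0,1,2,3,4,5,8,0,1,2,3,4,5]))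
 (Tr.node (Tr.leaf [8,9,3,2,1,3,4,5,3,8,9,3,2,1,3,4,5,3,8,9,3,2,1,3,4,5,3,8,9,3,2,1,3,4,5,3,8,9,3,2,1,3,4,5,3,8,9,3,2,1,3,4,5,3,8,9,3,2,1,3,4,5,3,8,9,3,2,1,3,4,5,3,8,9,3,2,1,3,4,5,3,8,9,3,2,1,3,4,5,3])
 (Tr.leaf [8,0,1,2,3,4,5,8,0,1,2,3,4,5,8,0,1,2,3,4,5,8,0,1,2,3,4,5,8,0,1,2,3,4,5,8,0,1,2,3,4,5,8,0,1,2,3,4,5,8,0,1,2,3,4,5,8,0,1,2,3,4,5])))))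
 (Tr.node (Tr.node (Tr.node (Tr.node (Tr.leaf [0,1,0,1,0,1])
 (Tr.leaf [8,0,1,2,3,4,5,8,0,1,2,3,4,5,8,0,1,2,3,4,5,8,0,1,2,3,4,5,8,0,1,2,3,4,5,8,0,1,2,3,4,5,8,0,1,2,3,4,5,8,0,1,2,3,4,5,8,0,1,2,3,4,5]))
 (Tr.node (Tr.leaf [4,7,4,7])
 (Tr.leaf [8,0,1,2,3,4,5,8,0,1,2,3,4,5,8,0,1,2,3,4,5,8,0,1,2,3,4,5,8,0,1,2,3,4,5,8,0,1,2,3,4,5,8,0,1,2,3,4,5,8,0,1,2,3,4,5,8,0,1,2,3,4,5])))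
 (Tr.node (Tr.node (Tr.leaf [1,9,1,9])
 (Tr.leaf [8,0,1,2,3,4,5,8,0,1,2,3,4,5,8,0,1,2,3,4,5,8,0,1,2,3,4,5,8,0,1,2,3,4,5,8,0,1,2,3,4,5,8,0,1,2,3,4,5,8,0,1,2,3,4,5,8,0,1,2,3,4,5]))
 (Tr.node (Tr.leaf [3,4,5,3,8,9,3,2,1,3,4,5,3,8,9,3,2,1,3,4,5,3,8,9,3,2,1,3,4,5,3,8,9,3,2,1,3,4,5,3,8,9,3,2,1,3,4,5,3,8,9,3,2,1,3,4,5,3,8,9,3,2,1,3,4,5,3,8,9,3,2,1,3,4,5,3,8,9,3,2,1,3,4,5,3,8,9,3,2,1])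
 (Tr.leaf [8,0,1,2,3,4,5,8,0,1,2,3,4,5,8,0,1,2,3,4,5,8,0,1,2,3,4,5,8,0,1,2,3,4,5,8,0,1,2,3,4,5,8,0,1,2,3,4,5,8,0,1,2,3,4,5,8,0,1,2,3,4,5]))))
 (Tr.node (Tr.node (Tr.node (Tr.leaf [0,9,0,9])
 (Tr.leaf [8,0,1,2,3,4,5,8,0,1,2,3,4,5,8,0,1,2,3,4,5,8,0,1,2,3,4,5,8,0,1,2,3,4,5,8,0,1,2,3,4,5,8,0,1,2,3,4,5,8,0,1,2,3,4,5,8,0,1,2,3,4,5]))
 (Tr.node (Tr.leaf [6,8,6,8])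
 (Tr.leaf [8,0,1,2,3,4,5,8,0,1,2,3,4,5,8,0,1,2,3,4,5,8,0,1,2,3,4,5,8,0,1,2,3,4,5,8,0,1,2,3,4,5,8,0,1,2,3,4,5,8,0,1,2,3,4,5,8,0,1,2,3,4,5])))
 (Tr.node (Tr.node (Tr.leaf [3,4,3,4,3,4])
 (Tr.leaf [8,0,1,2,3,4,5,8,0,1,2,3,4,5,8,0,1,2,3,4,5,8,0,1,2,3,4,5,8,0,1,2,3,4,5,8,0,1,2,3,4,5,8,0,1,2,3,4,5,8,0,1,2,3,4,5,8,0,1,2,3,4,5]))
 (Tr.node (Tr.leaf [2,3,4,5,8,0,1,2,3,4,5,8,0,1,2,3,4,5,8,0,1,2,3,4,5,8,0,1,2,3,4,5,8,0,1,2,3,4,5,8,0,1,2,3,4,5,8,0,1,2,3,4,5,8,0,1,2,3,4,5,8,0,1])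
 (Tr.leaf [8,0,1,2,3,4,5,8,0,1,2,3,4,5,8,0,1,2,3,4,5,8,0,1,2,3,4,5,8,0,1,2,3,4,5,8,0,1,2,3,4,5,8,0,1,2,3,4,5,8,0,1,2,3,4,5,8,0,1,2,3,4,5])))))))
 (Tr.node (Tr.node (Tr.node (Tr.node (Tr.node (Tr.node (Tr.leaf [1,1])
 (Tr.leaf [5,8,0,1,2,3,4,5,8,0,1,2,3,4,5,8,0,1,2,3,4,5,8,0,1,2,3,4,5,8,0,1,2,3,4,5,8,0,1,2,3,4,5,8,0,1,2,3,4,5,8,0,1,2,3,4,5,8,0,1,2,3,4]))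
 (Tr.node (Tr.leaf [3,7,3,7])
 (Tr.leaf [8,0,1,2,3,4,5,8,0,1,2,3,4,5,8,0,1,2,3,4,5,8,0,1,2,3,4,5,8,0,1,2,3,4,5,8,0,1,2,3,4,5,8,0,1,2,3,4,5,8,0,1,2,3,4,5,8,0,1,2,3,4,5])))
 (Tr.node (Tr.node (Tr.leaf [1,4,1,4])
 (Tr.leaf [8,0,1,2,3,4,5,8,0,1,2,3,4,5,8,0,1,2,3,4,5,8,0,1,2,3,4,5,8,0,1,2,3,4,5,8,0,1,2,3,4,5,8,0,1,2,3,4,5,8,0,1,2,3,4,5,8,0,1,2,3,4,5]))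
 (Tr.node (Tr.leaf [7,9,7,9])
 (Tr.leaf [8,0,1,2,3,4,5,8,0,1,2,3,4,5,8,0,1,2,3,4,5,8,0,1,2,3,4,5,8,0,1,2,3,4,5,8,0,1,2,3,4,5,8,0,1,2,3,4,5,8,0,1,2,3,4,5,8,0,1,2,3,4,5]))))
 (Tr.node (Tr.node (Tr.node (Tr.leaf [0,4,0,4])
 (Tr.leaf [8,0,1,2,3,4,5,8,0,1,2,3,4,5,8,0,1,2,3,4,5,8,0,1,2,3,4,5,8,0,1,2,3,4,5,8,0,1,2,3,4,5,8,0,1,2,3,4,5,8,0,1,2,3,4,5,8,0,1,2,3,4,5]))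
 (Tr.node (Tr.leaf [5,6,5,6,5,6])
 (Tr.leaf [8,0,1,2,3,4,5,8,0,1,2,3,4,5,8,0,1,2,3,4,5,8,0,1,2,3,4,5,8,0,1,2,3,4,5,8,0,1,2,3,4,5,8,0,1,2,3,4,5,8,0,1,2,3,4,5,8,0,1,2,3,4,5])))
 (Tr.node (Tr.node (Tr.leaf [2,5,2,5])
 (Tr.leaf [8,0,1,2,3,4,5,8,0,1,2,3,4,5,8,0,1,2,3,4,5,8,0,1,2,3,4,5,8,0,1,2,3,4,5,8,0,1,2,3,4,5,8,0,1,2,3,4,5,8,0,1,2,3,4,5,8,0,1,2,3,4,5]))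
 (Tr.node (Tr.leaf [3,8,9,3,2,1,3,4,5,3,8,9,3,2,1,3,4,5,3,8,9,3,2,1,3,4,5,3,8,9,3,2,1,3,4,5,3,8,9,3,2,1,3,4,5,3,8,9,3,2,1,3,4,5,3,8,9,3,2,1,3,4,5,3,8,9,3,2,1,3,4,5,3,8,9,3,2,1,3,4,5,3,8,9,3,2,1,3,4,5])
 (Tr.leaf [8,0,1,2,3,4,5,8,0,1,2,3,4,5,8,0,1,2,3,4,5,8,0,1,2,3,4,5,8,0,1,2,3,4,5,8,0,1,2,3,4,5,8,0,1,2,3,4,5,8,0,1,2,3,4,5,8,0,1,2,3,4,5])))))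
 (Tr.node (Tr.node (Tr.node (Tr.node (Tr.leaf [9,9])
 (Tr.leaf [8,0,1,2,3,4,5,8,0,1,2,3,4,5,8,0,1,2,3,4,5,8,0,1,2,3,4,5,8,0,1,2,3,4,5,8,0,1,2,3,4,5,8,0,1,2,3,4,5,8,0,1,2,3,4,5,8,0,1,2,3,4,5]))
 (Tr.node (Tr.leaf [4,6,4,6])
 (Tr.leaf [8,0,1,2,3,4,5,8,0,1,2,3,4,5,8,0,1,2,3,4,5,8,0,1,2,3,4,5,8,0,1,2,3,4,5,8,0,1,2,3,4,5,8,0,1,2,3,4,5,8,0,1,2,3,4,5,8,0,1,2,3,4,5])))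
 (Tr.node (Tr.node (Tr.leaf [1,8,1,8])
 (Tr.leaf [8,0,1,2,3,4,5,8,0,1,2,3,4,5,8,0,1,2,3,4,5,8,0,1,2,3,4,5,8,0,1,2,3,4,5,8,0,1,2,3,4,5,8,0,1,2,3,4,5,8,0,1,2,3,4,5,8,0,1,2,3,4,5]))
 (Tr.node (Tr.leaf [1,3,4,5,3,8,9,3,2,1,3,4,5,3,8,9,3,2,1,3,4,5,3,8,9,3,2,1,3,4,5,3,8,9,3,2,1,3,4,5,3,8,9,3,2,1,3,4,5,3,8,9,3,2,1,3,4,5,3,8,9,3,2,1,3,4,5,3,8,9,3,2,1,3,4,5,3,8,9,3,2,1,3,4,5,3,8,9,3,2])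
 (Tr.leaf [8,0,1,2,3,4,5,8,0,1,2,3,4,5,8,0,1,2,3,4,5,8,0,1,2,3,4,5,8,0,1,2,3,4,5,8,0,1,2,3,4,5,8,0,1,2,3,4,5,8,0,1,2,3,4,5,8,0,1,2,3,4,5]))))
 (Tr.node (Tr.node (Tr.node (Tr.leaf [0,8,0,8])
 (Tr.leaf [8,0,1,2,3,4,5,8,0,1,2,3,4,5,8,0,1,2,3,4,5,8,0,1,2,3,4,5,8,0,1,2,3,4,5,8,0,1,2,3,4,5,8,0,1,2,3,4,5,8,0,1,2,3,4,5,8,0,1,2,3,4,5]))
 (Tr.node (Tr.leaf [6,7,6,7,6,7])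
 (Tr.leaf [8,0,1,2,3,4,5,8,0,1,2,3,4,5,8,0,1,2,3,4,5,8,0,1,2,3,4,5,8,0,1,2,3,4,5,8,0,1,2,3,4,5,8,0,1,2,3,4,5,8,0,1,2,3,4,5,8,0,1,2,3,4,5])))
 (Tr.node (Tr.node (Tr.leaf [2,9,2,9])
 (Tr.leaf [8,0,1,2,3,4,5,8,0,1,2,3,4,5,8,0,1,2,3,4,5,8,0,1,2,3,4,5,8,0,1,2,3,4,5,8,0,1,2,3,4,5,8,0,1,2,3,4,5,8,0,1,2,3,4,5,8,0,1,2,3,4,5]))
 (Tr.node (Tr.leaf [1,2,3,4,5,8,0,1,2,3,4,5,8,0,1,2,3,4,5,8,0,1,2,3,4,5,8,0,1,2,3,4,5,8,0,1,2,3,4,5,8,0,1,2,3,4,5,8,0,1,2,3,4,5,8,0,1,2,3,4,5,8,0])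
 (Tr.leaf [8,0,1,2,3,4,5,8,0,1,2,3,4,5,8,0,1,2,3,4,5,8,0,1,2,3,4,5,8,0,1,2,3,4,5,8,0,1,2,3,4,5,8,0,1,2,3,4,5,8,0,1,2,3,4,5,8,0,1,2,3,4,5]))))))
 (Tr.node (Tr.node (Tr.node (Tr.node (Tr.node (Tr.leaf [5,5])
 (Tr.leaf [8,0,1,2,3,4,5,8,0,1,2,3,4,5,8,0,1,2,3,4,5,8,0,1,2,3,4,5,8,0,1,2,3,4,5,8,0,1,2,3,4,5,8,0,1,2,3,4,5,8,0,1,2,3,4,5,8,0,1,2,3,4,5]))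
 (Tr.node (Tr.leaf [3,9,3,9])
 (Tr.leaf [8,0,1,2,3,4,5,8,0,1,2,3,4,5,8,0,1,2,3,4,5,8,0,1,2,3,4,5,8,0,1,2,3,4,5,8,0,1,2,3,4,5,8,0,1,2,3,4,5,8,0,1,2,3,4,5,8,0,1,2,3,4,5])))
 (Tr.node (Tr.node (Tr.leaf [1,6,1,6])
 (Tr.leaf [8,0,1,2,3,4,5,8,0,1,2,3,4,5,8,0,1,2,3,4,5,8,0,1,2,3,4,5,8,0,1,2,3,4,5,8,0,1,2,3,4,5,8,0,1,2,3,4,5,8,0,1,2,3,4,5,8,0,1,2,3,4,5]))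
 (Tr.node (Tr.leaf [3,2,1,3,4,5,3,8,9,3,2,1,3,4,5,3,8,9,3,2,1,3,4,5,3,8,9,3,2,1,3,4,5,3,8,9,3,2,1,3,4,5,3,8,9,3,2,1,3,4,5,3,8,9,3,2,1,3,4,5,3,8,9,3,2,1,3,4,5,3,8,9,3,2,1,3,4,5,3,8,9,3,2,1,3,4,5,3,8,9])
 (Tr.leaf [8,0,1,2,3,4,5,8,0,1,2,3,4,5,8,0,1,2,3,4,5,8,0,1,2,3,4,5,8,0,1,2,3,4,5,8,0,1,2,3,4,5,8,0,1,2,3,4,5,8,0,1,2,3,4,5,8,0,1,2,3,4,5]))))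
 (Tr.node (Tr.node (Tr.node (Tr.leaf [0,6,0,6])
 (Tr.leaf [8,0,1,2,3,4,5,8,0,1,2,3,4,5,8,0,1,2,3,4,5,8,0,1,2,3,4,5,8,0,1,2,3,4,5,8,0,1,2,3,4,5,8,0,1,2,3,4,5,8,0,1,2,3,4,5,8,0,1,2,3,4,5]))
 (Tr.node (Tr.leaf [5,8,5,8])
 (Tr.leaf [8,0,1,2,3,4,5,8,0,1,2,3,4,5,8,0,1,2,3,4,5,8,0,1,2,3,4,5,8,0,1,2,3,4,5,8,0,1,2,3,4,5,8,0,1,2,3,4,5,8,0,1,2,3,4,5,8,0,1,2,3,4,5])))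
 (Tr.node (Tr.node (Tr.leaf [2,7,2,7])
 (Tr.leaf [8,0,1,2,3,4,5,8,0,1,2,3,4,5,8,0,1,2,3,4,5,8,0,1,2,3,4,5,8,0,1,2,3,4,5,8,0,1,2,3,4,5,8,0,1,2,3,4,5,8,0,1,2,3,4,5,8,0,1,2,3,4,5]))
 (Tr.node (Tr.leaf [9,3,2,1,3,4,5,3,8,9,3,2,1,3,4,5,3,8,9,3,2,1,3,4,5,3,8,9,3,2,1,3,4,5,3,8,9,3,2,1,3,4,5,3,8,9,3,2,1,3,4,5,3,8,9,3,2,1,3,4,5,3,8,9,3,2,1,3,4,5,3,8,9,3,2,1,3,4,5,3,8,9,3,2,1,3,4,5,3,8])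
 (Tr.leaf [8,0,1,2,3,4,5,8,0,1,2,3,4,5,8,0,1,2,3,4,5,8,0,1,2,3,4,5,8,0,1,2,3,4,5,8,0,1,2,3,4,5,8,0,1,2,3,4,5,8,0,1,2,3,4,5,8,0,1,2,3,4,5])))))
 (Tr.node (Tr.node (Tr.node (Tr.node (Tr.leaf [0,2,0,2])
 (Tr.leaf [8,0,1,2,3,4,5,8,0,1,2,3,4,5,8,0,1,2,3,4,5,8,0,1,2,3,4,5,8,0,1,2,3,4,5,8,0,1,2,3,4,5,8,0,1,2,3,4,5,8,0,1,2,3,4,5,8,0,1,2,3,4,5]))
 (Tr.node (Tr.leaf [4,8,4,8])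
 (Tr.leaf [8,0,1,2,3,4,5,8,0,1,2,3,4,5,8,0,1,2,3,4,5,8,0,1,2,3,4,5,8,0,1,2,3,4,5,8,0,1,2,3,4,5,8,0,1,2,3,4,5,8,0,1,2,3,4,5,8,0,1,2,3,4,5])))
 (Tr.node (Tr.node (Tr.leaf [2,3,2,3,2,3])
 (Tr.leaf [8,0,1,2,3,4,5,8,0,1,2,3,4,5,8,0,1,2,3,4,5,8,0,1,2,3,4,5,8,0,1,2,3,4,5,8,0,1,2,3,4,5,8,0,1,2,3,4,5,8,0,1,2,3,4,5,8,0,1,2,3,4,5]))
 (Tr.node (Tr.leaf [4,5,3,8,9,3,2,1,3,4,5,3,8,9,3,2,1,3,4,5,3,8,9,3,2,1,3,4,5,3,8,9,3,2,1,3,4,5,3,8,9,3,2,1,3,4,5,3,8,9,3,2,1,3,4,5,3,8,9,3,2,1,3,4,5,3,8,9,3,2,1,3,4,5,3,8,9,3,2,1,3,4,5,3,8,9,3,2,1,3])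
 (Tr.leaf [8,0,1,2,3,4,5,8,0,1,2,3,4,5,8,0,1,2,3,4,5,8,0,1,2,3,4,5,8,0,1,2,3,4,5,8,0,1,2,3,4,5,8,0,1,2,3,4,5,8,0,1,2,3,4,5,8,0,1,2,3,4,5]))))
 (Tr.node (Tr.node (Tr.node (Tr.leaf [1,2,1,2,1,2])
 (Tr.leaf [8,0,1,2,3,4,5,8,0,1,2,3,4,5,8,0,1,2,3,4,5,8,0,1,2,3,4,5,8,0,1,2,3,4,5,8,0,1,2,3,4,5,8,0,1,2,3,4,5,8,0,1,2,3,4,5,8,0,1,2,3,4,5]))
 (Tr.node (Tr.leaf [6,9,6,9])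
 (Tr.leaf [8,0,1,2,3,4,5,8,0,1,2,3,4,5,8,0,1,2,3,4,5,8,0,1,2,3,4,5,8,0,1,2,3,4,5,8,0,1,2,3,4,5,8,0,1,2,3,4,5,8,0,1,2,3,4,5,8,0,1,2,3,4,5])))
 (Tr.node (Tr.node (Tr.leaf [3,5,3,5])
 (Tr.leaf [8,0,1,2,3,4,5,8,0,1,2,3,4,5,8,0,1,2,3,4,5,8,0,1,2,3,4,5,8,0,1,2,3,4,5,8,0,1,2,3,4,5,8,0,1,2,3,4,5,8,0,1,2,3,4,5,8,0,1,2,3,4,5]))
 (Tr.node (Tr.leaf [3,4,5,8,0,1,2,3,4,5,8,0,1,2,3,4,5,8,0,1,2,3,4,5,8,0,1,2,3,4,5,8,0,1,2,3,4,5,8,0,1,2,3,4,5,8,0,1,2,3,4,5,8,0,1,2,3,4,5,8,0,1,2])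
 (Tr.leaf [8,0,1,2,3,4,5,8,0,1,2,3,4,5,8,0,1,2,3,4,5,8,0,1,2,3,4,5,8,0,1,2,3,4,5,8,0,1,2,3,4,5,8,0,1,2,3,4,5,8,0,1,2,3,4,5,8,0,1,2,3,4,5]))))))))
 (Tr.node (Tr.node (Tr.node (Tr.node (Tr.node (Tr.node (Tr.node (Tr.leaf [0,0])
 (Tr.leaf [1,0,8,5,4,3,2,1,0,8,5,4,3,2,1,0,8,5,4,3,2,1,0,8,5,4,3,2,1,0,8,5,4,3,2,1,0,8,5,4,3,2,1,0,8,5,4,3,2,1,0,8,5,4,3,2,1,0,8,5,4,3,2]))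
 (Tr.node (Tr.leaf [7,3,7,3])
 (Tr.leaf [8,0,1,2,3,4,5,8,0,1,2,3,4,5,8,0,1,2,3,4,5,8,0,1,2,3,4,5,8,0,1,2,3,4,5,8,0,1,2,3,4,5,8,0,1,2,3,4,5,8,0,1,2,3,4,5,8,0,1,2,3,4,5])))
 (Tr.node (Tr.node (Tr.leaf [4,1,4,1])
 (Tr.leaf [8,0,1,2,3,4,5,8,0,1,2,3,4,5,8,0,1,2,3,4,5,8,0,1,2,3,4,5,8,0,1,2,3,4,5,8,0,1,2,3,4,5,8,0,1,2,3,4,5,8,0,1,2,3,4,5,8,0,1,2,3,4,5]))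
 (Tr.node (Tr.leaf [9,7,9,7])
 (Tr.leaf [8,0,1,2,3,4,5,8,0,1,2,3,4,5,8,0,1,2,3,4,5,8,0,1,2,3,4,5,8,0,1,2,3,4,5,8,0,1,2,3,4,5,8,0,1,2,3,4,5,8,0,1,2,3,4,5,8,0,1,2,3,4,5]))))
 (Tr.node (Tr.node (Tr.node (Tr.leaf [4,0,4,0])
 (Tr.leaf [8,0,1,2,3,4,5,8,0,1,2,3,4,5,8,0,1,2,3,4,5,8,0,1,2,3,4,5,8,0,1,2,3,4,5,8,0,1,2,3,4,5,8,0,1,2,3,4,5,8,0,1,2,3,4,5,8,0,1,2,3,4,5]))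
 (Tr.node (Tr.leaf [6,5,6,5,6,5])
 (Tr.leaf [8,0,1,2,3,4,5,8,0,1,2,3,4,5,8,0,1,2,3,4,5,8,0,1,2,3,4,5,8,0,1,2,3,4,5,8,0,1,2,3,4,5,8,0,1,2,3,4,5,8,0,1,2,3,4,5,8,0,1,2,3,4,5])))
 (Tr.node (Tr.node (Tr.leaf [5,2,5,2])
 (Tr.leaf [8,0,1,2,3,4,5,8,0,1,2,3,4,5,8,0,1,2,3,4,5,8,0,1,2,3,4,5,8,0,1,2,3,4,5,8,0,1,2,3,4,5,8,0,1,2,3,4,5,8,0,1,2,3,4,5,8,0,1,2,3,4,5]))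
 (Tr.node (Tr.leaf [1,2,3,9,8,3,5,4,3,1,2,3,9,8,3,5,4,3,1,2,3,9,8,3,5,4,3,1,2,3,9,8,3,5,4,3,1,2,3,9,8,3,5,4,3,1,2,3,9,8,3,5,4,3,1,2,3,9,8,3,5,4,3,1,2,3,9,8,3,5,4,3,1,2,3,9,8,3,5,4,3,1,2,3,9,8,3,5,4,3])
 (Tr.leaf [8,0,1,2,3,4,5,8,0,1,2,3,4,5,8,0,1,2,3,4,5,8,0,1,2,3,4,5,8,0,1,2,3,4,5,8,0,1,2,3,4,5,8,0,1,2,3,4,5,8,0,1,2,3,4,5,8,0,1,2,3,4,5])))))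
 (Tr.node (Tr.node (Tr.node (Tr.node (Tr.leaf [8,8])
 (Tr.leaf [8,0,1,2,3,4,5,8,0,1,2,3,4,5,8,0,1,2,3,4,5,8,0,1,2,3,4,5,8,0,1,2,3,4,5,8,0,1,2,3,4,5,8,0,1,2,3,4,5,8,0,1,2,3,4,5,8,0,1,2,3,4,5]))
 (Tr.node (Tr.leaf [6,4,6,4])
 (Tr.leaf [8,0,1,2,3,4,5,8,0,1,2,3,4,5,8,0,1,2,3,4,5,8,0,1,2,3,4,5,8,0,1,2,3,4,5,8,0,1,2,3,4,5,8,0,1,2,3,4,5,8,0,1,2,3,4,5,8,0,1,2,3,4,5])))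
 (Tr.node (Tr.node (Tr.leaf [8,1,8,1])
 (Tr.leaf [8,0,1,2,3,4,5,8,0,1,2,3,4,5,8,0,1,2,3,4,5,8,0,1,2,3,4,5,8,0,1,2,3,4,5,8,0,1,2,3,4,5,8,0,1,2,3,4,5,8,0,1,2,3,4,5,8,0,1,2,3,4,5]))
 (Tr.node (Tr.leaf [3,5,4,3,1,2,3,9,8,3,5,4,3,1,2,3,9,8,3,5,4,3,1,2,3,9,8,3,5,4,3,1,2,3,9,8,3,5,4,3,1,2,3,9,8,3,5,4,3,1,2,3,9,8,3,5,4,3,1,2,3,9,8,3,5,4,3,1,2,3,9,8,3,5,4,3,1,2,3,9,8,3,5,4,3,1,2,3,9,8])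
 (Tr.leaf [8,0,1,2,3,4,5,8,0,1,2,3,4,5,8,0,1,2,3,4,5,8,0,1,2,3,4,5,8,0,1,2,3,4,5,8,0,1,2,3,4,5,8,0,1,2,3,4,5,8,0,1,2,3,4,5,8,0,1,2,3,4,5]))))
 (Tr.node (Tr.node (Tr.node (Tr.leaf [8,0,8,0])
 (Tr.leaf [8,0,1,2,3,4,5,8,0,1,2,3,4,5,8,0,1,2,3,4,5,8,0,1,2,3,4,5,8,0,1,2,3,4,5,8,0,1,2,3,4,5,8,0,1,2,3,4,5,8,0,1,2,3,4,5,8,0,1,2,3,4,5]))
 (Tr.node (Tr.leaf [7,6,7,6,7,6])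
 (Tr.leaf [8,0,1,2,3,4,5,8,0,1,2,3,4,5,8,0,1,2,3,4,5,8,0,1,2,3,4,5,8,0,1,2,3,4,5,8,0,1,2,3,4,5,8,0,1,2,3,4,5,8,0,1,2,3,4,5,8,0,1,2,3,4,5])))
 (Tr.node (Tr.node (Tr.leaf [9,2,9,2])
 (Tr.leaf [8,0,1,2,3,4,5,8,0,1,2,3,4,5,8,0,1,2,3,4,5,8,0,1,2,3,4,5,8,0,1,2,3,4,5,8,0,1,2,3,4,5,8,0,1,2,3,4,5,8,0,1,2,3,4,5,8,0,1,2,3,4,5]))
 (Tr.node (Tr.leaf [5,4,3,2,1,0,8,5,4,3,2,1,0,8,5,4,3,2,1,0,8,5,4,3,2,1,0,8,5,4,3,2,1,0,8,5,4,3,2,1,0,8,5,4,3,2,1,0,8,5,4,3,2,1,0,8,5,4,3,2,1,0,8])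
 (Tr.leaf [8,0,1,2,3,4,5,8,0,1,2,3,4,5,8,0,1,2,3,4,5,8,0,1,2,3,4,5,8,0,1,2,3,4,5,8,0,1,2,3,4,5,8,0,1,2,3,4,5,8,0,1,2,3,4,5,8,0,1,2,3,4,5]))))))
 (Tr.node (Tr.node (Tr.node (Tr.node (Tr.node (Tr.leaf [4,4])
 (Tr.leaf [8,0,1,2,3,4,5,8,0,1,2,3,4,5,8,0,1,2,3,4,5,8,0,1,2,3,4,5,8,0,1,2,3,4,5,8,0,1,2,3,4,5,8,0,1,2,3,4,5,8,0,1,2,3,4,5,8,0,1,2,3,4,5]))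
 (Tr.node (Tr.leaf [9,3,9,3])
 (Tr.leaf [8,0,1,2,3,4,5,8,0,1,2,3,4,5,8,0,1,2,3,4,5,8,0,1,2,3,4,5,8,0,1,2,3,4,5,8,0,1,2,3,4,5,8,0,1,2,3,4,5,8,0,1,2,3,4,5,8,0,1,2,3,4,5])))
 (Tr.node (Tr.node (Tr.leaf [6,1,6,1])
 (Tr.leaf [8,0,1,2,3,4,5,8,0,1,2,3,4,5,8,0,1,2,3,4,5,8,0,1,2,3,4,5,8,0,1,2,3,4,5,8,0,1,2,3,4,5,8,0,1,2,3,4,5,8,0,1,2,3,4,5,8,0,1,2,3,4,5]))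
 (Tr.node (Tr.leaf [9,8,3,5,4,3,1,2,3,9,8,3,5,4,3,1,2,3,9,8,3,5,4,3,1,2,3,9,8,3,5,4,3,1,2,3,9,8,3,5,4,3,1,2,3,9,8,3,5,4,3,1,2,3,9,8,3,5,4,3,1,2,3,9,8,3,5,4,3,1,2,3,9,8,3,5,4,3,1,2,3,9,8,3,5,4,3,1,2,3])
 (Tr.leaf [8,0,1,2,3,4,5,8,0,1,2,3,4,5,8,0,1,2,3,4,5,8,0,1,2,3,4,5,8,0,1,2,3,4,5,8,0,1,2,3,4,5,8,0,1,2,3,4,5,8,0,1,2,3,4,5,8,0,1,2,3,4,5]))))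
 (Tr.node (Tr.node (Tr.node (Tr.leaf [6,0,6,0])
 (Tr.leaf [8,0,1,2,3,4,5,8,0,1,2,3,4,5,8,0,1,2,3,4,5,8,0,1,2,3,4,5,8,0,1,2,3,4,5,8,0,1,2,3,4,5,8,0,1,2,3,4,5,8,0,1,2,3,4,5,8,0,1,2,3,4,5]))
 (Tr.node (Tr.leaf [8,5,8,5])
 (Tr.leaf [8,0,1,2,3,4,5,8,0,1,2,3,4,5,8,0,1,2,3,4,5,8,0,1,2,3,4,5,8,0,1,2,3,4,5,8,0,1,2,3,4,5,8,0,1,2,3,4,5,8,0,1,2,3,4,5,8,0,1,2,3,4,5])))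
 (Tr.node (Tr.node (Tr.leaf [7,2,7,2])
 (Tr.leaf [8,0,1,2,3,4,5,8,0,1,2,3,4,5,8,0,1,2,3,4,5,8,0,1,2,3,4,5,8,0,1,2,3,4,5,8,0,1,2,3,4,5,8,0,1,2,3,4,5,8,0,1,2,3,4,5,8,0,1,2,3,4,5]))
 (Tr.node (Tr.leaf [3,9,8,3,5,4,3,1,2,3,9,8,3,5,4,3,1,2,3,9,8,3,5,4,3,1,2,3,9,8,3,5,4,3,1,2,3,9,8,3,5,4,3,1,2,3,9,8,3,5,4,3,1,2,3,9,8,3,5,4,3,1,2,3,9,8,3,5,4,3,1,2,3,9,8,3,5,4,3,1,2,3,9,8,3,5,4,3,1,2])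
 (Tr.leaf [8,0,1,2,3,4,5,8,0,1,2,3,4,5,8,0,1,2,3,4,5,8,0,1,2,3,4,5,8,0,1,2,3,4,5,8,0,1,2,3,4,5,8,0,1,2,3,4,5,8,0,1,2,3,4,5,8,0,1,2,3,4,5])))))
 (Tr.node (Tr.node (Tr.node (Tr.node (Tr.leaf [2,0,2,0])
 (Tr.leaf [8,0,1,2,3,4,5,8,0,1,2,3,4,5,8,0,1,2,3,4,5,8,0,1,2,3,4,5,8,0,1,2,3,4,5,8,0,1,2,3,4,5,8,0,1,2,3,4,5,8,0,1,2,3,4,5,8,0,1,2,3,4,5]))
 (Tr.node (Tr.leaf [8,4,8,4])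
 (Tr.leaf [8,0,1,2,3,4,5,8,0,1,2,3,4,5,8,0,1,2,3,4,5,8,0,1,2,3,4,5,8,0,1,2,3,4,5,8,0,1,2,3,4,5,8,0,1,2,3,4,5,8,0,1,2,3,4,5,8,0,1,2,3,4,5])))
 (Tr.node (Tr.node (Tr.leaf [3,2,3,2,3,2])
 (Tr.leaf [8,0,1,2,3,4,5,8,0,1,2,3,4,5,8,0,1,2,3,4,5,8,0,1,2,3,4,5,8,0,1,2,3,4,5,8,0,1,2,3,4,5,8,0,1,2,3,4,5,8,0,1,2,3,4,5,8,0,1,2,3,4,5]))
 (Tr.node (Tr.leaf [4,3,1,2,3,9,8,3,5,4,3,1,2,3,9,8,3,5,4,3,1,2,3,9,8,3,5,4,3,1,2,3,9,8,3,5,4,3,1,2,3,9,8,3,5,4,3,1,2,3,9,8,3,5,4,3,1,2,3,9,8,3,5,4,3,1,2,3,9,8,3,5,4,3,1,2,3,9,8,3,5,4,3,1,2,3,9,8,3,5])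
 (Tr.leaf [8,0,1,2,3,4,5,8,0,1,2,3,4,5,8,0,1,2,3,4,5,8,0,1,2,3,4,5,8,0,1,2,3,4,5,8,0,1,2,3,4,5,8,0,1,2,3,4,5,8,0,1,2,3,4,5,8,0,1,2,3,4,5]))))
 (Tr.node (Tr.node (Tr.node (Tr.leaf [2,1,2,1,2,1])
 (Tr.leaf [8,0,1,2,3,4,5,8,0,1,2,3,4,5,8,0,1,2,3,4,5,8,0,1,2,3,4,5,8,0,1,2,3,4,5,8,0,1,2,3,4,5,8,0,1,2,3,4,5,8,0,1,2,3,4,5,8,0,1,2,3,4,5]))
 (Tr.node (Tr.leaf [9,6,9,6])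
 (Tr.leaf [8,0,1,2,3,4,5,8,0,1,2,3,4,5,8,0,1,2,3,4,5,8,0,1,2,3,4,5,8,0,1,2,3,4,5,8,0,1,2,3,4,5,8,0,1,2,3,4,5,8,0,1,2,3,4,5,8,0,1,2,3,4,5])))
 (Tr.node (Tr.node (Tr.leaf [5,3,5,3])
 (Tr.leaf [8,0,1,2,3,4,5,8,0,1,2,3,4,5,8,0,1,2,3,4,5,8,0,1,2,3,4,5,8,0,1,2,3,4,5,8,0,1,2,3,4,5,8,0,1,2,3,4,5,8,0,1,2,3,4,5,8,0,1,2,3,4,5]))
 (Tr.node (Tr.leaf [3,2,1,0,8,5,4,3,2,1,0,8,5,4,3,2,1,0,8,5,4,3,2,1,0,8,5,4,3,2,1,0,8,5,4,3,2,1,0,8,5,4,3,2,1,0,8,5,4,3,2,1,0,8,5,4,3,2,1,0,8,5,4])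
 (Tr.leaf [8,0,1,2,3,4,5,8,0,1,2,3,4,5,8,0,1,2,3,4,5,8,0,1,2,3,4,5,8,0,1,2,3,4,5,8,0,1,2,3,4,5,8,0,1,2,3,4,5,8,0,1,2,3,4,5,8,0,1,2,3,4,5])))))))
 (Tr.node (Tr.node (Tr.node (Tr.node (Tr.node (Tr.node (Tr.leaf [2,2])
 (Tr.leaf [0,8,5,4,3,2,1,0,8,5,4,3,2,1,0,8,5,4,3,2,1,0,8,5,4,3,2,1,0,8,5,4,3,2,1,0,8,5,4,3,2,1,0,8,5,4,3,2,1,0,8,5,4,3,2,1,0,8,5,4,3,2,1]))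
 (Tr.node (Tr.leaf [8,3,8,3,8,3])
 (Tr.leaf [8,0,1,2,3,4,5,8,0,1,2,3,4,5,8,0,1,2,3,4,5,8,0,1,2,3,4,5,8,0,1,2,3,4,5,8,0,1,2,3,4,5,8,0,1,2,3,4,5,8,0,1,2,3,4,5,8,0,1,2,3,4,5])))
 (Tr.node (Tr.node (Tr.leaf [5,1,5,1])
 (Tr.leaf [8,0,1,2,3,4,5,8,0,1,2,3,4,5,8,0,1,2,3,4,5,8,0,1,2,3,4,5,8,0,1,2,3,4,5,8,0,1,2,3,4,5,8,0,1,2,3,4,5,8,0,1,2,3,4,5,8,0,1,2,3,4,5]))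
 (Tr.node (Tr.leaf [9,8,9,8,9,8])
 (Tr.leaf [8,0,1,2,3,4,5,8,0,1,2,3,4,5,8,0,1,2,3,4,5,8,0,1,2,3,4,5,8,0,1,2,3,4,5,8,0,1,2,3,4,5,8,0,1,2,3,4,5,8,0,1,2,3,4,5,8,0,1,2,3,4,5]))))
 (Tr.node (Tr.node (Tr.node (Tr.leaf [5,0,5,0])
 (Tr.leaf [8,0,1,2,3,4,5,8,0,1,2,3,4,5,8,0,1,2,3,4,5,8,0,1,2,3,4,5,8,0,1,2,3,4,5,8,0,1,2,3,4,5,8,0,1,2,3,4,5,8,0,1,2,3,4,5,8,0,1,2,3,4,5]))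
 (Tr.node (Tr.leaf [7,5,7,5])
 (Tr.leaf [8,0,1,2,3,4,5,8,0,1,2,3,4,5,8,0,1,2,3,4,5,8,0,1,2,3,4,5,8,0,1,2,3,4,5,8,0,1,2,3,4,5,8,0,1,2,3,4,5,8,0,1,2,3,4,5,8,0,1,2,3,4,5])))
 (Tr.node (Tr.node (Tr.leaf [6,2,6,2])
 (Tr.leaf [8,0,1,2,3,4,5,8,0,1,2,3,4,5,8,0,1,2,3,4,5,8,0,1,2,3,4,5,8,0,1,2,3,4,5,8,0,1,2,3,4,5,8,0,1,2,3,4,5,8,0,1,2,3,4,5,8,0,1,2,3,4,5]))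
 (Tr.node (Tr.leaf [2,3,9,8,3,5,4,3,1,2,3,9,8,3,5,4,3,1,2,3,9,8,3,5,4,3,1,2,3,9,8,3,5,4,3,1,2,3,9,8,3,5,4,3,1,2,3,9,8,3,5,4,3,1,2,3,9,8,3,5,4,3,1,2,3,9,8,3,5,4,3,1,2,3,9,8,3,5,4,3,1,2,3,9,8,3,5,4,3,1])
 (Tr.leaf [8,0,1,2,3,4,5,8,0,1,2,3,4,5,8,0,1,2,3,4,5,8,0,1,2,3,4,5,8,0,1,2,3,4,5,8,0,1,2,3,4,5,8,0,1,2,3,4,5,8,0,1,2,3,4,5,8,0,1,2,3,4,5])))))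
 (Tr.node (Tr.node (Tr.node (Tr.node (Tr.leaf [1,0,1,0,1,0])
 (Tr.leaf [8,0,1,2,3,4,5,8,0,1,2,3,4,5,8,0,1,2,3,4,5,8,0,1,2,3,4,5,8,0,1,2,3,4,5,8,0,1,2,3,4,5,8,0,1,2,3,4,5,8,0,1,2,3,4,5,8,0,1,2,3,4,5]))
 (Tr.node (Tr.leaf [7,4,7,4])
 (Tr.leaf [8,0,1,2,3,4,5,8,0,1,2,3,4,5,8,0,1,2,3,4,5,8,0,1,2,3,4,5,8,0,1,2,3,4,5,8,0,1,2,3,4,5,8,0,1,2,3,4,5,8,0,1,2,3,4,5,8,0,1,2,3,4,5])))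
 (Tr.node (Tr.node (Tr.leaf [9,1,9,1])
 (Tr.leaf [8,0,1,2,3,4,5,8,0,1,2,3,4,5,8,0,1,2,3,4,5,8,0,1,2,3,4,5,8,0,1,2,3,4,5,8,0,1,2,3,4,5,8,0,1,2,3,4,5,8,0,1,2,3,4,5,8,0,1,2,3,4,5]))
 (Tr.node (Tr.leaf [5,4,3,1,2,3,9,8,3,5,4,3,1,2,3,9,8,3,5,4,3,1,2,3,9,8,3,5,4,3,1,2,3,9,8,3,5,4,3,1,2,3,9,8,3,5,4,3,1,2,3,9,8,3,5,4,3,1,2,3,9,8,3,5,4,3,1,2,3,9,8,3,5,4,3,1,2,3,9,8,3,5,4,3,1,2,3,9,8,3])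
 (Tr.leaf [8,0,1,2,3,4,5,8,0,1,2,3,4,5,8,0,1,2,3,4,5,8,0,1,2,3,4,5,8,0,1,2,3,4,5,8,0,1,2,3,4,5,8,0,1,2,3,4,5,8,0,1,2,3,4,5,8,0,1,2,3,4,5]))))
 (Tr.node (Tr.node (Tr.node (Tr.leaf [9,0,9,0])
 (Tr.leaf [8,0,1,2,3,4,5,8,0,1,2,3,4,5,8,0,1,2,3,4,5,8,0,1,2,3,4,5,8,0,1,2,3,4,5,8,0,1,2,3,4,5,8,0,1,2,3,4,5,8,0,1,2,3,4,5,8,0,1,2,3,4,5]))
 (Tr.node (Tr.leaf [8,6,8,6])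
 (Tr.leaf [8,0,1,2,3,4,5,8,0,1,2,3,4,5,8,0,1,2,3,4,5,8,0,1,2,3,4,5,8,0,1,2,3,4,5,8,0,1,2,3,4,5,8,0,1,2,3,4,5,8,0,1,2,3,4,5,8,0,1,2,3,4,5])))
 (Tr.node (Tr.node (Tr.leaf [4,3,4,3,4,3])
 (Tr.leaf [8,0,1,2,3,4,5,8,0,1,2,3,4,5,8,0,1,2,3,4,5,8,0,1,2,3,4,5,8,0,1,2,3,4,5,8,0,1,2,3,4,5,8,0,1,2,3,4,5,8,0,1,2,3,4,5,8,0,1,2,3,4,5]))
 (Tr.node (Tr.leaf [4,3,2,1,0,8,5,4,3,2,1,0,8,5,4,3,2,1,0,8,5,4,3,2,1,0,8,5,4,3,2,1,0,8,5,4,3,2,1,0,8,5,4,3,2,1,0,8,5,4,3,2,1,0,8,5,4,3,2,1,0,8,5])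
 (Tr.leaf [8,0,1,2,3,4,5,8,0,1,2,3,4,5,8,0,1,2,3,4,5,8,0,1,2,3,4,5,8,0,1,2,3,4,5,8,0,1,2,3,4,5,8,0,1,2,3,4,5,8,0,1,2,3,4,5,8,0,1,2,3,4,5]))))))
 (Tr.node (Tr.node (Tr.node (Tr.node (Tr.node (Tr.leaf [6,6])
 (Tr.leaf [8,0,1,2,3,4,5,8,0,1,2,3,4,5,8,0,1,2,3,4,5,8,0,1,2,3,4,5,8,0,1,2,3,4,5,8,0,1,2,3,4,5,8,0,1,2,3,4,5,8,0,1,2,3,4,5,8,0,1,2,3,4,5]))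
 (Tr.node (Tr.leaf [5,4,5,4,5,4])
 (Tr.leaf [8,0,1,2,3,4,5,8,0,1,2,3,4,5,8,0,1,2,3,4,5,8,0,1,2,3,4,5,8,0,1,2,3,4,5,8,0,1,2,3,4,5,8,0,1,2,3,4,5,8,0,1,2,3,4,5,8,0,1,2,3,4,5])))
 (Tr.node (Tr.node (Tr.leaf [7,1,7,1])
 (Tr.leaf [8,0,1,2,3,4,5,8,0,1,2,3,4,5,8,0,1,2,3,4,5,8,0,1,2,3,4,5,8,0,1,2,3,4,5,8,0,1,2,3,4,5,8,0,1,2,3,4,5,8,0,1,2,3,4,5,8,0,1,2,3,4,5]))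
 (Tr.node (Tr.leaf [8,3,5,4,3,1,2,3,9,8,3,5,4,3,1,2,3,9,8,3,5,4,3,1,2,3,9,8,3,5,4,3,1,2,3,9,8,3,5,4,3,1,2,3,9,8,3,5,4,3,1,2,3,9,8,3,5,4,3,1,2,3,9,8,3,5,4,3,1,2,3,9,8,3,5,4,3,1,2,3,9,8,3,5,4,3,1,2,3,9])
 (Tr.leaf [8,0,1,2,3,4,5,8,0,1,2,3,4,5,8,0,1,2,3,4,5,8,0,1,2,3,4,5,8,0,1,2,3,4,5,8,0,1,2,3,4,5,8,0,1,2,3,4,5,8,0,1,2,3,4,5,8,0,1,2,3,4,5]))))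
 (Tr.node (Tr.node (Tr.node (Tr.leaf [7,0,7,0])
 (Tr.leaf [8,0,1,2,3,4,5,8,0,1,2,3,4,5,8,0,1,2,3,4,5,8,0,1,2,3,4,5,8,0,1,2,3,4,5,8,0,1,2,3,4,5,8,0,1,2,3,4,5,8,0,1,2,3,4,5,8,0,1,2,3,4,5]))
 (Tr.node (Tr.leaf [9,5,9,5])
 (Tr.leaf [8,0,1,2,3,4,5,8,0,1,2,3,4,5,8,0,1,2,3,4,5,8,0,1,2,3,4,5,8,0,1,2,3,4,5,8,0,1,2,3,4,5,8,0,1,2,3,4,5,8,0,1,2,3,4,5,8,0,1,2,3,4,5])))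
 (Tr.node (Tr.node (Tr.leaf [8,2,8,2])
 (Tr.leaf [8,0,1,2,3,4,5,8,0,1,2,3,4,5,8,0,1,2,3,4,5,8,0,1,2,3,4,5,8,0,1,2,3,4,5,8,0,1,2,3,4,5,8,0,1,2,3,4,5,8,0,1,2,3,4,5,8,0,1,2,3,4,5]))
 (Tr.node (Tr.leaf [8,5,4,3,2,1,0,8,5,4,3,2,1,0,8,5,4,3,2,1,0,8,5,4,3,2,1,0,8,5,4,3,2,1,0,8,5,4,3,2,1,0,8,5,4,3,2,1,0,8,5,4,3,2,1,0,8,5,4,3,2,1,0])
 (Tr.leaf [8,0,1,2,3,4,5,8,0,1,2,3,4,5,8,0,1,2,3,4,5,8,0,1,2,3,4,5,8,0,1,2,3,4,5,8,0,1,2,3,4,5,8,0,1,2,3,4,5,8,0,1,2,3,4,5,8,0,1,2,3,4,5])))))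
 (Tr.node (Tr.node (Tr.node (Tr.node (Tr.leaf [3,0,3,0])
 (Tr.leaf [8,0,1,2,3,4,5,8,0,1,2,3,4,5,8,0,1,2,3,4,5,8,0,1,2,3,4,5,8,0,1,2,3,4,5,8,0,1,2,3,4,5,8,0,1,2,3,4,5,8,0,1,2,3,4,5,8,0,1,2,3,4,5]))
 (Tr.node (Tr.leaf [9,4,9,4])
 (Tr.leaf [8,0,1,2,3,4,5,8,0,1,2,3,4,5,8,0,1,2,3,4,5,8,0,1,2,3,4,5,8,0,1,2,3,4,5,8,0,1,2,3,4,5,8,0,1,2,3,4,5,8,0,1,2,3,4,5,8,0,1,2,3,4,5])))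
 (Tr.node (Tr.node (Tr.leaf [4,2,4,2])
 (Tr.leaf [8,0,1,2,3,4,5,8,0,1,2,3,4,5,8,0,1,2,3,4,5,8,0,1,2,3,4,5,8,0,1,2,3,4,5,8,0,1,2,3,4,5,8,0,1,2,3,4,5,8,0,1,2,3,4,5,8,0,1,2,3,4,5]))
 (Tr.node (Tr.leaf [3,1,2,3,9,8,3,5,4,3,1,2,3,9,8,3,5,4,3,1,2,3,9,8,3,5,4,3,1,2,3,9,8,3,5,4,3,1,2,3,9,8,3,5,4,3,1,2,3,9,8,3,5,4,3,1,2,3,9,8,3,5,4,3,1,2,3,9,8,3,5,4,3,1,2,3,9,8,3,5,4,3,1,2,3,9,8,3,5,4])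
 (Tr.leaf [8,0,1,2,3,4,5,8,0,1,2,3,4,5,8,0,1,2,3,4,5,8,0,1,2,3,4,5,8,0,1,2,3,4,5,8,0,1,2,3,4,5,8,0,1,2,3,4,5,8,0,1,2,3,4,5,8,0,1,2,3,4,5]))))
 (Tr.node (Tr.node (Tr.node (Tr.leaf [3,1,3,1])
 (Tr.leaf [8,0,1,2,3,4,5,8,0,1,2,3,4,5,8,0,1,2,3,4,5,8,0,1,2,3,4,5,8,0,1,2,3,4,5,8,0,1,2,3,4,5,8,0,1,2,3,4,5,8,0,1,2,3,4,5,8,0,1,2,3,4,5]))
 (Tr.node (Tr.leaf [8,7,8,7])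
 (Tr.leaf [8,0,1,2,3,4,5,8,0,1,2,3,4,5,8,0,1,2,3,4,5,8,0,1,2,3,4,5,8,0,1,2,3,4,5,8,0,1,2,3,4,5,8,0,1,2,3,4,5,8,0,1,2,3,4,5,8,0,1,2,3,4,5])))
 (Tr.node (Tr.node (Tr.leaf [6,3,6,3])
 (Tr.leaf [8,0,1,2,3,4,5,8,0,1,2,3,4,5,8,0,1,2,3,4,5,8,0,1,2,3,4,5,8,0,1,2,3,4,5,8,0,1,2,3,4,5,8,0,1,2,3,4,5,8,0,1,2,3,4,5,8,0,1,2,3,4,5]))
 (Tr.node (Tr.leaf [2,1,0,8,5,4,3,2,1,0,8,5,4,3,2,1,0,8,5,4,3,2,1,0,8,5,4,3,2,1,0,8,5,4,3,2,1,0,8,5,4,3,2,1,0,8,5,4,3,2,1,0,8,5,4,3,2,1,0,8,5,4,3])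
 (Tr.leaf [8,0,1,2,3,4,5,8,0,1,2,3,4,5,8,0,1,2,3,4,5,8,0,1,2,3,4,5,8,0,1,2,3,4,5,8,0,1,2,3,4,5,8,0,1,2,3,4,5,8,0,1,2,3,4,5,8,0,1,2,3,4,5])))))))))

/-- The subgroup rotations. -/
noncomputable def srotT : Tr (List Nat × Nat × List Nat) := (Tr.node (Tr.node (Tr.node (Tr.node (Tr.leaf ([],0,[]))
 (Tr.leaf ([],9,[])))
 (Tr.node (Tr.leaf ([],4,[]))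
 (Tr.leaf ([],9,[]))))
 (Tr.node (Tr.node (Tr.leaf ([],2,[]))
 (Tr.leaf ([],9,[])))
 (Tr.node (Tr.leaf ([],6,[]))
 (Tr.leaf ([],9,[])))))
 (Tr.node (Tr.node (Tr.node (Tr.leaf ([],1,[]))
 (Tr.leaf ([],9,[])))
 (Tr.node (Tr.leaf ([],5,[]))
 (Tr.leaf ([],9,[]))))
 (Tr.node (Tr.node (Tr.leaf ([],3,[]))
 (Tr.leaf ([],9,[])))
 (Tr.node (Tr.leaf ([],8,[]))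
 (Tr.leaf ([],9,[]))))))

/-- The certificate. -/
noncomputable def cert : Cert :=
  mkCert 10 52266 420058 5 133 142 4 15 601 51 510 581 2251799813685247 2361183241434822606847 19 16 524287 65535 35 32 15 ctree.get rotT.get srotT.get

/-- The chunks of the table. -/
noncomputable def ptree : Tr Nat := Cfsg.Agent.Lib.TC.D.Fi23a.PT0.tree

/-- The table. -/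
noncomputable def pt : PT :=
  mkPT 31671 10 5 31 12 15 32767 ptree.get Cfsg.Agent.Lib.TC.G.Fi23.invF

/-- The witnesses of the rotations. -/
noncomputable def witT : Tr (Nat × Nat × Bool) := (Tr.node (Tr.node (Tr.node (Tr.node (Tr.node (Tr.node (Tr.node (Tr.node (Tr.leaf (0,0,false))
 (Tr.leaf (56,4,true)))
 (Tr.node (Tr.leaf (30,1,false))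
 (Tr.leaf (56,6,true))))
 (Tr.node (Tr.node (Tr.leaf (12,1,false))
 (Tr.leaf (56,6,true)))
 (Tr.node (Tr.leaf (50,1,false))
 (Tr.leaf (56,6,true)))))
 (Tr.node (Tr.node (Tr.node (Tr.leaf (3,1,false))
 (Tr.leaf (56,6,true)))
 (Tr.node (Tr.leaf (39,1,false))
 (Tr.leaf (56,6,true))))
 (Tr.node (Tr.node (Tr.leaf (21,1,false))
 (Tr.leaf (56,6,true)))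
 (Tr.node (Tr.leaf (55,5,true))
 (Tr.leaf (56,6,true))))))
 (Tr.node (Tr.node (Tr.node (Tr.node (Tr.leaf (49,0,false))
 (Tr.leaf (56,6,true)))
 (Tr.node (Tr.leaf (35,1,false))
 (Tr.leaf (56,6,true))))
 (Tr.node (Tr.node (Tr.leaf (16,1,false))
 (Tr.leaf (56,6,true)))
 (Tr.node (Tr.leaf (55,1,true))
 (Tr.leaf (56,6,true)))))
 (Tr.node (Tr.node (Tr.node (Tr.leaf (7,1,false))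
 (Tr.leaf (56,6,true)))
 (Tr.node (Tr.leaf (44,1,false))
 (Tr.leaf (56,6,true))))
 (Tr.node (Tr.node (Tr.leaf (25,1,false))
 (Tr.leaf (56,6,true)))
 (Tr.node (Tr.leaf (56,0,true))
 (Tr.leaf (56,6,true)))))))
 (Tr.node (Tr.node (Tr.node (Tr.node (Tr.node (Tr.leaf (27,0,false))
 (Tr.leaf (56,6,true)))
 (Tr.node (Tr.leaf (32,1,false))
 (Tr.leaf (56,6,true))))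
 (Tr.node (Tr.node (Tr.leaf (14,1,false))
 (Tr.leaf (56,6,true)))
 (Tr.node (Tr.leaf (53,1,false))
 (Tr.leaf (56,6,true)))))
 (Tr.node (Tr.node (Tr.node (Tr.leaf (5,1,false))
 (Tr.leaf (56,6,true)))
 (Tr.node (Tr.leaf (42,1,false))
 (Tr.leaf (56,6,true))))
 (Tr.node (Tr.node (Tr.leaf (23,1,false))
 (Tr.leaf (56,6,true)))
 (Tr.node (Tr.leaf (55,7,true))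
 (Tr.leaf (56,6,true))))))
 (Tr.node (Tr.node (Tr.node (Tr.node (Tr.leaf (1,1,false))
 (Tr.leaf (56,6,true)))
 (Tr.node (Tr.leaf (37,1,false))
 (Tr.leaf (56,6,true))))
 (Tr.node (Tr.node (Tr.leaf (18,1,false))
 (Tr.leaf (56,6,true)))
 (Tr.node (Tr.leaf (55,3,true))
 (Tr.leaf (56,6,true)))))
 (Tr.node (Tr.node (Tr.node (Tr.leaf (9,1,false))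
 (Tr.leaf (56,6,true)))
 (Tr.node (Tr.leaf (47,1,false))
 (Tr.leaf (56,6,true))))
 (Tr.node (Tr.node (Tr.leaf (28,1,false))
 (Tr.leaf (56,6,true)))
 (Tr.node (Tr.leaf (56,2,true))
 (Tr.leaf (56,6,true))))))))
 (Tr.node (Tr.node (Tr.node (Tr.node (Tr.node (Tr.node (Tr.leaf (10,0,false))
 (Tr.leaf (56,5,true)))
 (Tr.node (Tr.leaf (31,1,false))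
 (Tr.leaf (56,6,true))))
 (Tr.node (Tr.node (Tr.leaf (13,1,false))
 (Tr.leaf (56,6,true)))
 (Tr.node (Tr.leaf (51,1,false))
 (Tr.leaf (56,6,true)))))
 (Tr.node (Tr.node (Tr.node (Tr.leaf (4,1,false))
 (Tr.leaf (56,6,true)))
 (Tr.node (Tr.leaf (41,1,false))
 (Tr.leaf (56,6,true))))
 (Tr.node (Tr.node (Tr.leaf (22,1,false))
 (Tr.leaf (56,6,true)))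
 (Tr.node (Tr.leaf (55,6,true))
 (Tr.leaf (56,6,true))))))
 (Tr.node (Tr.node (Tr.node (Tr.node (Tr.leaf (54,0,false))
 (Tr.leaf (56,6,true)))
 (Tr.node (Tr.leaf (36,1,false))
 (Tr.leaf (56,6,true))))
 (Tr.node (Tr.node (Tr.leaf (17,1,false))
 (Tr.leaf (56,6,true)))
 (Tr.node (Tr.leaf (55,2,true))
 (Tr.leaf (56,6,true)))))
 (Tr.node (Tr.node (Tr.node (Tr.leaf (8,1,false))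
 (Tr.leaf (56,6,true)))
 (Tr.node (Tr.leaf (46,1,false))
 (Tr.leaf (56,6,true))))
 (Tr.node (Tr.node (Tr.leaf (26,1,false))
 (Tr.leaf (56,6,true)))
 (Tr.node (Tr.leaf (56,1,true))
 (Tr.leaf (56,6,true)))))))
 (Tr.node (Tr.node (Tr.node (Tr.node (Tr.node (Tr.leaf (40,0,false))
 (Tr.leaf (56,6,true)))
 (Tr.node (Tr.leaf (33,1,false))
 (Tr.leaf (56,6,true))))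
 (Tr.node (Tr.node (Tr.leaf (15,1,false))
 (Tr.leaf (56,6,true)))
 (Tr.node (Tr.leaf (55,0,true))
 (Tr.leaf (56,6,true)))))
 (Tr.node (Tr.node (Tr.node (Tr.leaf (6,1,false))
 (Tr.leaf (56,6,true)))
 (Tr.node (Tr.leaf (43,1,false))
 (Tr.leaf (56,6,true))))
 (Tr.node (Tr.node (Tr.leaf (24,1,false))
 (Tr.leaf (56,6,true)))
 (Tr.node (Tr.leaf (55,8,true))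
 (Tr.leaf (56,6,true))))))
 (Tr.node (Tr.node (Tr.node (Tr.node (Tr.leaf (2,1,false))
 (Tr.leaf (56,6,true)))
 (Tr.node (Tr.leaf (38,1,false))
 (Tr.leaf (56,6,true))))
 (Tr.node (Tr.node (Tr.leaf (20,1,false))
 (Tr.leaf (56,6,true)))
 (Tr.node (Tr.leaf (55,4,true))
 (Tr.leaf (56,6,true)))))
 (Tr.node (Tr.node (Tr.node (Tr.leaf (11,1,false))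
 (Tr.leaf (56,6,true)))
 (Tr.node (Tr.leaf (48,1,false))
 (Tr.leaf (56,6,true))))
 (Tr.node (Tr.node (Tr.leaf (29,1,false))
 (Tr.leaf (56,6,true)))
 (Tr.node (Tr.leaf (56,3,true))
 (Tr.leaf (56,6,true)))))))))
 (Tr.node (Tr.node (Tr.node (Tr.node (Tr.node (Tr.node (Tr.node (Tr.leaf (0,0,false))
 (Tr.leaf (56,5,false)))
 (Tr.node (Tr.leaf (31,0,false))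
 (Tr.leaf (56,6,true))))
 (Tr.node (Tr.node (Tr.leaf (13,0,false))
 (Tr.leaf (56,6,true)))
 (Tr.node (Tr.leaf (51,0,false))
 (Tr.leaf (56,6,true)))))
 (Tr.node (Tr.node (Tr.node (Tr.leaf (4,0,false))
 (Tr.leaf (56,6,true)))
 (Tr.node (Tr.leaf (41,0,false))
 (Tr.leaf (56,6,true))))
 (Tr.node (Tr.node (Tr.leaf (22,0,false))
 (Tr.leaf (56,6,true)))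
 (Tr.node (Tr.leaf (55,6,false))
 (Tr.leaf (56,6,true))))))
 (Tr.node (Tr.node (Tr.node (Tr.node (Tr.leaf (52,0,false))
 (Tr.leaf (56,6,true)))
 (Tr.node (Tr.leaf (36,0,false))
 (Tr.leaf (56,6,true))))
 (Tr.node (Tr.node (Tr.leaf (17,0,false))
 (Tr.leaf (56,6,true)))
 (Tr.node (Tr.leaf (55,2,false))
 (Tr.leaf (56,6,true)))))
 (Tr.node (Tr.node (Tr.node (Tr.leaf (8,0,false))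
 (Tr.leaf (56,6,true)))
 (Tr.node (Tr.leaf (46,0,false))
 (Tr.leaf (56,6,true))))
 (Tr.node (Tr.node (Tr.leaf (26,0,false))
 (Tr.leaf (56,6,true)))
 (Tr.node (Tr.leaf (56,1,false))
 (Tr.leaf (56,6,true)))))))
 (Tr.node (Tr.node (Tr.node (Tr.node (Tr.node (Tr.leaf (34,0,false))
 (Tr.leaf (56,6,true)))
 (Tr.node (Tr.leaf (33,0,false))
 (Tr.leaf (56,6,true))))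
 (Tr.node (Tr.node (Tr.leaf (15,0,false))
 (Tr.leaf (56,6,true)))
 (Tr.node (Tr.leaf (55,0,false))
 (Tr.leaf (56,6,true)))))
 (Tr.node (Tr.node (Tr.node (Tr.leaf (6,0,false))
 (Tr.leaf (56,6,true)))
 (Tr.node (Tr.leaf (43,0,false))
 (Tr.leaf (56,6,true))))
 (Tr.node (Tr.node (Tr.leaf (24,0,false))
 (Tr.leaf (56,6,true)))
 (Tr.node (Tr.leaf (55,8,false))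
 (Tr.leaf (56,6,true))))))
 (Tr.node (Tr.node (Tr.node (Tr.node (Tr.leaf (2,0,false))
 (Tr.leaf (56,6,true)))
 (Tr.node (Tr.leaf (38,0,false))
 (Tr.leaf (56,6,true))))
 (Tr.node (Tr.node (Tr.leaf (20,0,false))
 (Tr.leaf (56,6,true)))
 (Tr.node (Tr.leaf (55,4,false))
 (Tr.leaf (56,6,true)))))
 (Tr.node (Tr.node (Tr.node (Tr.leaf (11,0,false))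
 (Tr.leaf (56,6,true)))
 (Tr.node (Tr.leaf (48,0,false))
 (Tr.leaf (56,6,true))))
 (Tr.node (Tr.node (Tr.leaf (29,0,false))
 (Tr.leaf (56,6,true)))
 (Tr.node (Tr.leaf (56,3,false))
 (Tr.leaf (56,6,true))))))))
 (Tr.node (Tr.node (Tr.node (Tr.node (Tr.node (Tr.node (Tr.leaf (19,0,false))
 (Tr.leaf (56,6,false)))
 (Tr.node (Tr.leaf (32,0,false))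
 (Tr.leaf (56,6,true))))
 (Tr.node (Tr.node (Tr.leaf (14,0,false))
 (Tr.leaf (56,6,true)))
 (Tr.node (Tr.leaf (53,0,false))
 (Tr.leaf (56,6,true)))))
 (Tr.node (Tr.node (Tr.node (Tr.leaf (5,0,false))
 (Tr.leaf (56,6,true)))
 (Tr.node (Tr.leaf (42,0,false))
 (Tr.leaf (56,6,true))))
 (Tr.node (Tr.node (Tr.leaf (23,0,false))
 (Tr.leaf (56,6,true)))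
 (Tr.node (Tr.leaf (55,7,false))
 (Tr.leaf (56,6,true))))))
 (Tr.node (Tr.node (Tr.node (Tr.node (Tr.leaf (1,0,false))
 (Tr.leaf (56,6,true)))
 (Tr.node (Tr.leaf (37,0,false))
 (Tr.leaf (56,6,true))))
 (Tr.node (Tr.node (Tr.leaf (18,0,false))
 (Tr.leaf (56,6,true)))
 (Tr.node (Tr.leaf (55,3,false))
 (Tr.leaf (56,6,true)))))
 (Tr.node (Tr.node (Tr.node (Tr.leaf (9,0,false))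
 (Tr.leaf (56,6,true)))
 (Tr.node (Tr.leaf (47,0,false))
 (Tr.leaf (56,6,true))))
 (Tr.node (Tr.node (Tr.leaf (28,0,false))
 (Tr.leaf (56,6,true)))
 (Tr.node (Tr.leaf (56,2,false))
 (Tr.leaf (56,6,true)))))))
 (Tr.node (Tr.node (Tr.node (Tr.node (Tr.node (Tr.leaf (45,0,false))
 (Tr.leaf (56,6,true)))
 (Tr.node (Tr.leaf (35,0,false))
 (Tr.leaf (56,6,true))))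
 (Tr.node (Tr.node (Tr.leaf (16,0,false))
 (Tr.leaf (56,6,true)))
 (Tr.node (Tr.leaf (55,1,false))
 (Tr.leaf (56,6,true)))))
 (Tr.node (Tr.node (Tr.node (Tr.leaf (7,0,false))
 (Tr.leaf (56,6,true)))
 (Tr.node (Tr.leaf (44,0,false))
 (Tr.leaf (56,6,true))))
 (Tr.node (Tr.node (Tr.leaf (25,0,false))
 (Tr.leaf (56,6,true)))
 (Tr.node (Tr.leaf (56,0,false))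
 (Tr.leaf (56,6,true))))))
 (Tr.node (Tr.node (Tr.node (Tr.node (Tr.leaf (3,0,false))
 (Tr.leaf (56,6,true)))
 (Tr.node (Tr.leaf (39,0,false))
 (Tr.leaf (56,6,true))))
 (Tr.node (Tr.node (Tr.leaf (21,0,false))
 (Tr.leaf (56,6,true)))
 (Tr.node (Tr.leaf (55,5,false))
 (Tr.leaf (56,6,true)))))
 (Tr.node (Tr.node (Tr.node (Tr.leaf (12,0,false))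
 (Tr.leaf (56,6,true)))
 (Tr.node (Tr.leaf (50,0,false))
 (Tr.leaf (56,6,true))))
 (Tr.node (Tr.node (Tr.leaf (30,0,false))
 (Tr.leaf (56,6,true)))
 (Tr.node (Tr.leaf (56,4,false))
 (Tr.leaf (56,6,true))))))))))

/-- The words of the subgroup. -/
def subW : List (List (Cfsg.Spor.Fi23.Gen × Bool)) :=
  [[(Cfsg.Spor.Fi23.Gen.a,true)],
   [(Cfsg.Spor.Fi23.Gen.b,true)],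
   [(Cfsg.Spor.Fi23.Gen.c,true)],
   [(Cfsg.Spor.Fi23.Gen.d,true)],
   [(Cfsg.Spor.Fi23.Gen.e,true)],
   [(Cfsg.Spor.Fi23.Gen.f,true)],
   [(Cfsg.Spor.Fi23.Gen.g,true)],
   [(Cfsg.Spor.Fi23.Gen.h,true)],
   [(Cfsg.Spor.Fi23.Gen.i,true)]]

/-- The words of the subgroup, as columns. -/
def subs : List (List Nat) :=
  [[0],[1],[2],[3],[4],[5],[6],[8],[9]]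


end Cfsg.Agent.Lib.TC.D.Fi23a.Tab
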